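import Mathlib
import Groth.Agent.Lib.Helper1.Miracle
import Groth.Agent.Lib.Helper1.ComplDepth
import Groth.Agent.Lib.Helper1.DimFormula3
import Groth.Agent.Lib.Helper2.DimFG
import Groth.Agent.Lib.Helper5.CA.GR2
import Groth.Agent.Lib.Helper5.JacDim.A
import Groth.Agent.Lib.Helper1.CMFlat

set_option autoImplicit false
universe u

open TensorProduct IsLocalRing

namespace Groth.Agent.H5.QFFlat

section fibre
variable (R S : Type u) [CommRing R] [CommRing S] [Algebra R S] [Algebra.QuasiFinite R S]
  (p : Ideal R) [p.IsPrime] (q : Ideal S) [q.IsPrime] [q.LiesOver p]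

/-- the closed fibre of `R_p → S_q` has dimension zero when `R → S` is quasi-finite. -/
theorem ringKrullDim_fibre_eq_zero :
    letI := Localization.AtPrime.algebraOfLiesOver p q
    ringKrullDim (Localization.AtPrime q ⧸
      (maximalIdeal (Localization.AtPrime p)).map
        (algebraMap (Localization.AtPrime p) (Localization.AtPrime q))) = 0 := by
  letI := Localization.AtPrime.algebraOfLiesOver p q
  set A := Localization.AtPrime p
  set B := Localization.AtPrime q
  set J : Ideal B := (maximalIdeal A).map (algebraMap A B) with hJ
  have hJle : J ≤ maximalIdeal B :=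
    ((IsLocalRing.local_hom_TFAE (algebraMap A B)).out 0 2 rfl rfl).mp inferInstance
  haveI : Nontrivial (B ⧸ J) := Ideal.Quotient.nontrivial_iff.mpr
    (fun h => (maximalIdeal.isMaximal B).ne_top (top_le_iff.mp (h ▸ hJle)))
  haveI : Ring.KrullDimLE 0 (B ⧸ J) := by
    rw [Ring.krullDimLE_zero_iff]
    intro r hr
    set r' : Ideal B := r.comap (Ideal.Quotient.mk J) with hr'
    haveI : r'.IsPrime := Ideal.comap_isPrime _ _
    have hJr' : J ≤ r' := by
      intro x hx
      rw [hr', Ideal.mem_comap, Ideal.Quotient.eq_zero_iff_mem.mpr hx]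
      exact zero_mem _
    set Q' : Ideal S := r'.comap (algebraMap S B) with hQ'
    haveI : Q'.IsPrime := Ideal.comap_isPrime _ _
    have hr'le : r' ≤ maximalIdeal B := IsLocalRing.le_maximalIdeal (Ideal.IsPrime.ne_top inferInstance)
    have hQ'q : Q' ≤ q := by
      rw [← IsLocalization.AtPrime.comap_maximalIdeal B q]
      exact Ideal.comap_mono hr'le
    have hunder : Q'.under R = q.under R := by
      apply le_antisymm
      · exact Ideal.comap_mono hQ'q
      · intro x hx
        rw [← Ideal.LiesOver.over (p := p) (P := q)] at hx
        show algebraMap R S x ∈ Q'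
        rw [hQ', Ideal.mem_comap]
        apply hJr'
        have h1 : algebraMap S B (algebraMap R S x) = algebraMap A B (algebraMap R A x) := by
          rw [← IsScalarTower.algebraMap_apply R S B, ← IsScalarTower.algebraMap_apply R A B]
        rw [h1]
        apply Ideal.mem_map_of_mem
        exact (IsLocalization.AtPrime.to_map_mem_maximal_iff A p x).mpr hx
    have hQq : Q' = q := Algebra.QuasiFinite.eq_of_le_of_under_eq (R := R) Q' q hQ'q hunder
    have hr'max : r' = maximalIdeal B := by
      rw [← IsLocalization.map_comap q.primeCompl B r']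
      show Ideal.map (algebraMap S B) Q' = maximalIdeal B
      rw [hQq]
      exact Localization.AtPrime.map_eq_maximalIdeal
    have hrmap : r = r'.map (Ideal.Quotient.mk J) :=
      (Ideal.map_comap_of_surjective _ Ideal.Quotient.mk_surjective r).symm
    rcases Ideal.map_eq_top_or_isMaximal_of_surjective (Ideal.Quotient.mk J)
      Ideal.Quotient.mk_surjective (hr'max ▸ maximalIdeal.isMaximal B : r'.IsMaximal) with h | h
    · exact absurd (hrmap.trans h) hr.ne_top
    · rw [hrmap]; exact h
  exact ringKrullDimZero_iff_ringKrullDim_eq_zero.mp inferInstance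

end fibre

section main
variable (k S : Type u) [Field k] [CommRing S] [Algebra k S] [Algebra.FiniteType k S] (d : ℕ)
  [Algebra (MvPolynomial (Fin d) k) S] [IsScalarTower k (MvPolynomial (Fin d) k) S]
  [Algebra.QuasiFinite (MvPolynomial (Fin d) k) S] (q : Ideal S) [q.IsPrime]

local notation "P" => MvPolynomial (Fin d) k

/-- localizations of polynomial rings over a field are regular. -/
theorem isRegularLocalRing_localization_mvPolynomial (p : Ideal P) [p.IsPrime] :
    IsRegularLocalRing (Localization.AtPrime p) := by
  haveI : IsNoetherianRing (Localization.AtPrime p) :=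
    IsLocalization.isNoetherianRing p.primeCompl _ inferInstance
  haveI : Algebra.FormallySmooth P (Localization.AtPrime p) :=
    Algebra.FormallySmooth.of_isLocalization p.primeCompl
  haveI : Algebra.FormallySmooth k (Localization.AtPrime p) :=
    Algebra.FormallySmooth.comp k P _
  exact Groth.Agent.H5.GR.isRegularLocalRing_of_isAdicFormallySmooth k _
    (Groth.Agent.H5.GR.isAdicFormallySmooth_of_formallySmooth k _ _)

/-- `dim P_p + trdeg κ(p) = d` for the polynomial ring. -/
theorem dim_add_trdeg_mvPolynomial (p : Ideal P) [p.IsPrime] :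
    ∃ r : ℕ, Algebra.trdeg k p.ResidueField = r ∧
      ringKrullDim (Localization.AtPrime p) + (r : WithBot ℕ∞) = d := by
  obtain ⟨r, hr, hr2, -⟩ := Groth.Agent.H1.DimFormula.localDim_primeSpectrum (k := k) (S := P) p
  refine ⟨r, hr, ?_⟩
  have h := Groth.Agent.H2.DimFG.height_add_ringKrullDim_quotient k P p
  rw [IsLocalization.AtPrime.ringKrullDim_eq_height p (Localization.AtPrime p), ← hr2, h,
    Groth.Agent.H2.DimFG.ringKrullDim_mvPolynomial_fin]

/-- the residue field extension of a quasi-finite map preserves the transcendence degree. -/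
theorem trdeg_residueField_eq :
    Algebra.trdeg k q.ResidueField = Algebra.trdeg k (q.under P).ResidueField := by
  set p : Ideal P := q.under P with hp
  haveI : q.LiesOver p := ⟨rfl⟩
  letI := Localization.AtPrime.algebraOfLiesOver p q
  haveI : Module.Finite p.ResidueField q.ResidueField := inferInstance
  haveI : Algebra.IsAlgebraic p.ResidueField q.ResidueField :=
    Algebra.IsAlgebraic.of_finite _ _
  haveI : IsScalarTower k p.ResidueField q.ResidueField := inferInstance
  have h := trdeg_add_eq k p.ResidueField (A := q.ResidueField)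
  rw [trdeg_eq_zero (R := p.ResidueField) (A := q.ResidueField), add_zero] at h
  exact h.symm

theorem main9159 :
    Module.Flat (MvPolynomial (Fin d) k) (Localization.AtPrime q) ↔
      (LocCoh.IsCohenMacaulayLocalRing (Localization.AtPrime q) ∧
        FlatMor.localDim (PrimeSpectrum S) ⟨q, inferInstance⟩ = (d : WithBot ℕ∞)) := by
  haveI : IsNoetherianRing S := Algebra.FiniteType.isNoetherianRing k S
  set p : Ideal P := q.under P with hp
  haveI : q.LiesOver p := ⟨rfl⟩
  letI := Localization.AtPrime.algebraOfLiesOver p q
  haveI : IsNoetherianRing (Localization.AtPrime q) :=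
    IsLocalization.isNoetherianRing q.primeCompl _ inferInstance
  haveI : IsNoetherianRing (Localization.AtPrime p) :=
    IsLocalization.isNoetherianRing p.primeCompl _ inferInstance
  haveI hreg : IsRegularLocalRing (Localization.AtPrime p) :=
    isRegularLocalRing_localization_mvPolynomial k d p
  have hflat : Module.Flat P (Localization.AtPrime q) ↔
      Module.Flat (Localization.AtPrime p) (Localization.AtPrime q) :=
    (Module.flat_iff_of_isLocalization (Localization.AtPrime p) p.primeCompl
      (Localization.AtPrime q)).symm
  -- dimensions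
  obtain ⟨rq, hrq, -, hlq⟩ := Groth.Agent.H1.DimFormula.localDim_primeSpectrum (k := k) q
  obtain ⟨rp, hrp, hdp⟩ := dim_add_trdeg_mvPolynomial k d p
  have hrr : rq = rp := by
    have := trdeg_residueField_eq k S d q
    rw [hrq, hrp] at this
    exact_mod_cast this
  subst hrr
  have h0 := ringKrullDim_fibre_eq_zero P S p q
  have hIeq : (((maximalIdeal (Localization.AtPrime p)).map
      (algebraMap (Localization.AtPrime p) (Localization.AtPrime q))) •
        (⊤ : Submodule (Localization.AtPrime q) (Localization.AtPrime q))) =
      (maximalIdeal (Localization.AtPrime p)).map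
        (algebraMap (Localization.AtPrime p) (Localization.AtPrime q)) := by
    rw [smul_eq_mul, Ideal.mul_top]
  obtain ⟨nA, hnA⟩ := Groth.Agent.H5.JacDim.exists_nat_ringKrullDim (Localization.AtPrime p)
  obtain ⟨nB, hnB⟩ := Groth.Agent.H5.JacDim.exists_nat_ringKrullDim (Localization.AtPrime q)
  have hAd : nA + rq = d := by
    rw [hnA] at hdp
    exact_mod_cast hdp
  constructor
  · intro hfl
    haveI hflA : Module.Flat (Localization.AtPrime p) (Localization.AtPrime q) := hflat.mp hfl
    obtain ⟨-, hdim⟩ := Groth.Agent.H1.ComplDepth.depth_dim_eq_of_fiber_dim_zero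
      (Localization.AtPrime p) (Localization.AtPrime q) h0
    have hCM := (Groth.Agent.H1.ComplDepth.isCohenMacaulayLocalRing_iff_of_fiber_dim_zero
      (Localization.AtPrime p) (Localization.AtPrime q) h0).mp
      (Groth.Agent.H1.CMFlat.isCohenMacaulayLocalRing_of_isRegularLocalRing _)
    refine ⟨hCM, ?_⟩
    rw [hlq, hdim]
    exact hdp
  · rintro ⟨hCM, hld⟩
    rw [hflat]
    have hCM' : LocCoh.IsCohenMacaulayModule (Localization.AtPrime q) (Localization.AtPrime q) :=
      hCM.supportDim_eq_depth
    apply Groth.Agent.H1.Miracle.flat_of_cm (A := Localization.AtPrime p)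
      (B := Localization.AtPrime q) (Localization.AtPrime q) hCM'
    rw [Module.supportDim_self_eq_ringKrullDim,
      Module.supportDim_eq_of_equiv (Submodule.quotEquivOfEq _ _ hIeq),
      Module.supportDim_quotient_eq_ringKrullDim, h0, add_zero]
    rw [hlq, hnB] at hld
    have hBd : nB + rq = d := by exact_mod_cast hld
    rw [hnA, hnB]
    have : nB = nA := by omega
    rw [this]

end main

end Groth.Agent.H5.QFFlat
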